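import Groth.Agent.Lib.RegSeqLoc.Basic
import Mathlib.RingTheory.Nakayama

/-!
# Exchanging elements of a regular sequence
-/

universe u

open RingTheory.Sequence IsLocalRing

namespace GrothLib.RegExch

variable {R : Type u} [CommRing R]

theorem mk_mem_ofList_map_iff (K : Ideal R) (l : List R) (y : R) :
    Ideal.Quotient.mk K y ∈ Ideal.ofList (l.map (Ideal.Quotient.mk K)) ↔ y ∈ K ⊔ Ideal.ofList l := by
  rw [← Ideal.map_ofList, ← Ideal.mem_comap,
    Ideal.comap_map_of_surjective' _ Ideal.Quotient.mk_surjective, Ideal.mk_ker, sup_comm]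

theorem isWeaklyRegular_quotient {as bs : List R} (h : IsWeaklyRegular R (as ++ bs)) :
    IsWeaklyRegular (R ⧸ Ideal.ofList as) (bs.map (Ideal.Quotient.mk (Ideal.ofList as))) := by
  rw [GrothLib.RegSeqLoc.isWeaklyRegular_iff_mem] at h ⊢
  intro i hi z hz
  rw [List.length_map] at hi
  obtain ⟨z, rfl⟩ := Ideal.Quotient.mk_surjective z
  rw [← List.map_take, List.getElem_map, ← map_mul, mk_mem_ofList_map_iff,
    ← Ideal.ofList_append] at hz
  rw [← List.map_take, mk_mem_ofList_map_iff, ← Ideal.ofList_append]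
  have h' := h (as.length + i) (by rw [List.length_append]; omega) z
  rw [List.take_length_add_append, List.getElem_append_right (by omega)] at h'
  simp only [Nat.add_sub_cancel_left] at h'
  exact h' hz

theorem isWeaklyRegular_cons {f : R} {l : List R} (hf : IsSMulRegular R f)
    (h : IsWeaklyRegular (R ⧸ Ideal.span {f}) (l.map (Ideal.Quotient.mk (Ideal.span {f})))) :
    IsWeaklyRegular R (f :: l) := by
  rw [GrothLib.RegSeqLoc.isWeaklyRegular_iff_mem] at h ⊢
  intro i hi x hx
  cases i with
  | zero =>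
    simp only [List.take_zero, Ideal.ofList_nil, Ideal.mem_bot, List.getElem_cons_zero] at hx ⊢
    exact hf.right_eq_zero_of_smul hx
  | succ i =>
    simp only [List.take_succ_cons, Ideal.ofList_cons, List.getElem_cons_succ] at hx ⊢
    have hi' : i < (l.map (Ideal.Quotient.mk (Ideal.span {f}))).length := by
      simpa using hi
    have h' := h i hi' (Ideal.Quotient.mk _ x)
    rw [← List.map_take, List.getElem_map, ← map_mul, mk_mem_ofList_map_iff, mk_mem_ofList_map_iff] at h'
    exact h' hx

theorem isWeaklyRegular_replace_last {o : List R} {x f u : R} (hu : IsUnit u)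
    (hfu : f - u * x ∈ Ideal.ofList o) (h : IsWeaklyRegular R (o ++ [x])) :
    IsWeaklyRegular R (o ++ [f]) := by
  rw [GrothLib.RegSeqLoc.isWeaklyRegular_iff_mem] at h ⊢
  intro i hi z hz
  simp only [List.length_append, List.length_cons, List.length_nil] at hi
  by_cases hio : i < o.length
  · have h' := h i (by simp; omega) z
    simp only [List.take_append_of_le_length hio.le, List.getElem_append_left hio] at hz h' ⊢
    exact h' hz
  · obtain rfl : i = o.length := by omega
    have h' := h o.length (by simp) z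
    simp only [List.take_left', List.getElem_concat_length] at hz h' ⊢
    refine h' ((Ideal.unit_mul_mem_iff_mem _ hu).mp ?_)
    have := sub_mem hz (Ideal.mul_mem_right z _ hfu)
    rwa [← sub_mul, sub_sub_cancel, mul_assoc] at this

variable [IsLocalRing R]

theorem exists_split : ∀ (xs : List R) (f : R), f ∈ Ideal.ofList xs →
    f ∉ maximalIdeal R * Ideal.ofList xs →
    ∃ (l₁ l₂ : List R) (x u : R), xs = l₁ ++ x :: l₂ ∧ IsUnit u ∧
      f - u * x ∈ Ideal.ofList (l₁ ++ l₂) := by
  intro xs
  induction xs with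
  | nil => intro f h h'; exact absurd (by simp_all [Ideal.ofList_nil]) h'
  | cons a rest ih =>
    intro f h h'
    rw [Ideal.ofList_cons] at h
    obtain ⟨c, hc, g, hg, rfl⟩ := Submodule.mem_sup.mp h
    obtain ⟨c, rfl⟩ := Ideal.mem_span_singleton'.mp hc
    by_cases hu : IsUnit c
    · exact ⟨[], rest, a, c, rfl, hu, by simpa using hg⟩
    · have hg' : g ∉ maximalIdeal R * Ideal.ofList rest := fun hgm => h' (by
        rw [Ideal.ofList_cons, Ideal.mul_sup]
        exact Submodule.add_mem_sup (Ideal.mul_mem_mul hu (Ideal.mem_span_singleton_self a)) hgm)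
      obtain ⟨l₁, l₂, x, u, rfl, hu', hx⟩ := ih g hg hg'
      refine ⟨a :: l₁, l₂, x, u, rfl, hu', ?_⟩
      rw [List.cons_append, Ideal.ofList_cons, add_sub_assoc]
      exact Submodule.add_mem_sup (Ideal.mul_mem_left _ _ (Ideal.mem_span_singleton_self a)) hx

theorem ofList_perm {l l' : List R} (h : l.Perm l') : Ideal.ofList l = Ideal.ofList l' :=
  congrArg Ideal.span (Set.ext fun _ => h.mem_iff)

/-- A family independent modulo `m J` extends to a regular sequence generating `J`. -/
theorem exists_extend : ∀ (fs : List R) [IsNoetherianRing R] (xs : List R),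
    IsWeaklyRegular R xs → (∀ x ∈ xs, x ∈ maximalIdeal R) →
    (∀ g ∈ fs, g ∈ Ideal.ofList xs) →
    (∀ l₁ g l₂, fs = l₁ ++ g :: l₂ → g ∉ Ideal.ofList l₁ ⊔ maximalIdeal R * Ideal.ofList xs) →
    ∃ gs, IsWeaklyRegular R (fs ++ gs) ∧ Ideal.ofList (fs ++ gs) = Ideal.ofList xs := by
  suffices ∀ (n : ℕ) (R : Type u) [CommRing R] [IsLocalRing R] [IsNoetherianRing R] (fs : List R),
      fs.length = n → ∀ (xs : List R), IsWeaklyRegular R xs → (∀ x ∈ xs, x ∈ maximalIdeal R) →
      (∀ g ∈ fs, g ∈ Ideal.ofList xs) →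
      (∀ l₁ g l₂, fs = l₁ ++ g :: l₂ → g ∉ Ideal.ofList l₁ ⊔ maximalIdeal R * Ideal.ofList xs) →
      ∃ gs, IsWeaklyRegular R (fs ++ gs) ∧ Ideal.ofList (fs ++ gs) = Ideal.ofList xs from
    fun fs _ => this fs.length R fs rfl
  intro n
  induction n with
  | zero =>
    intro R _ _ _ fs hlen xs hx _ _ _
    obtain rfl := List.eq_nil_of_length_eq_zero hlen
    exact ⟨xs, hx, rfl⟩
  | succ n ih =>
    intro R _ _ _ fs hlen xs hx hxm hmem hind
    obtain ⟨f, fs, rfl⟩ := List.exists_cons_of_length_eq_add_one hlen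
    have hf : f ∈ Ideal.ofList xs := hmem f List.mem_cons_self
    have hfm : f ∉ maximalIdeal R * Ideal.ofList xs := fun h =>
      hind [] f fs rfl (Ideal.mem_sup_right h)
    obtain ⟨l₁, l₂, x, u, rfl, hu, hfu⟩ := exists_split xs f hf hfm
    have hperm : (l₁ ++ x :: l₂).Perm ((l₁ ++ l₂) ++ [x]) :=
      List.perm_middle.trans (List.perm_append_singleton _ _).symm
    have h1 := isWeaklyRegular_replace_last hu hfu
      (IsLocalRing.isWeaklyRegular_of_perm_of_subset_maximalIdeal hx hperm hxm)
    have hfmax : f ∈ maximalIdeal R := Ideal.span_le.mpr hxm hf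
    have hom : ∀ z ∈ l₁ ++ l₂, z ∈ maximalIdeal R := fun z hz =>
      hxm z (hperm.mem_iff.mpr (List.mem_append_left _ hz))
    have h2 : IsWeaklyRegular R ([f] ++ (l₁ ++ l₂)) :=
      IsLocalRing.isWeaklyRegular_of_perm_of_subset_maximalIdeal h1 List.perm_append_comm
        fun z hz => by
          rcases List.mem_append.mp hz with hz | hz
          · exact hom z hz
          · rw [List.mem_singleton.mp hz]; exact hfmax
    have hJ : Ideal.span {f} ⊔ Ideal.ofList (l₁ ++ l₂) = Ideal.ofList (l₁ ++ x :: l₂) := by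
      rw [ofList_perm (List.perm_middle : (l₁ ++ x :: l₂).Perm _), Ideal.ofList_cons]
      refine le_antisymm (sup_le ((Ideal.span_singleton_le_iff_mem _).mpr ?_) le_sup_right)
        (sup_le ((Ideal.span_singleton_le_iff_mem _).mpr ?_) le_sup_right)
      · rw [show f = u * x + (f - u * x) by ring]
        exact Submodule.add_mem_sup (Ideal.mul_mem_left _ _ (Ideal.mem_span_singleton_self x)) hfu
      · rw [← Ideal.unit_mul_mem_iff_mem _ hu, show u * x = f + -(f - u * x) by ring]
        exact Submodule.add_mem_sup (Ideal.mem_span_singleton_self f) (neg_mem hfu)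
    haveI : Nontrivial (R ⧸ Ideal.span {f}) := Ideal.Quotient.nontrivial_iff.mpr
      (ne_top_of_le_ne_top (maximalIdeal.isMaximal R).ne_top
        ((Ideal.span_singleton_le_iff_mem _).mpr hfmax))
    let φ : R →+* R ⧸ Ideal.span {f} := Ideal.Quotient.mk _
    haveI : IsLocalRing (R ⧸ Ideal.span {f}) :=
      IsLocalRing.of_surjective' φ Ideal.Quotient.mk_surjective
    haveI : IsLocalHom φ := IsLocalHom.of_surjective φ Ideal.Quotient.mk_surjective
    have hmax : (maximalIdeal R).map φ = maximalIdeal (R ⧸ Ideal.span {f}) := by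
      rw [← IsLocalRing.eq_maximalIdeal ((IsLocalRing.maximalIdeal.isMaximal R).map_of_surjective_of_ker_le
        (f := φ) Ideal.Quotient.mk_surjective (by
          rw [Ideal.mk_ker]; exact (Ideal.span_singleton_le_iff_mem _).mpr hfmax))]
    have h3 : IsWeaklyRegular (R ⧸ Ideal.span {f}) ((l₁ ++ l₂).map φ) := by
      have := isWeaklyRegular_quotient h2
      rwa [Ideal.ofList_singleton] at this
    have hJ' : Ideal.ofList ((l₁ ++ l₂).map φ) = (Ideal.ofList (l₁ ++ x :: l₂)).map φ := by
      rw [← hJ, Ideal.map_sup, Ideal.map_quotient_self, bot_sup_eq, Ideal.map_ofList]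
    obtain ⟨gs, hgs, hgJ⟩ := ih _ (fs.map φ) (by simpa using hlen) _ h3
      (fun z hz => by
        obtain ⟨y, hy, rfl⟩ := List.mem_map.mp hz
        exact hmax ▸ Ideal.mem_map_of_mem φ (hom y hy))
      (fun z hz => by
        obtain ⟨y, hy, rfl⟩ := List.mem_map.mp hz
        exact hJ' ▸ Ideal.mem_map_of_mem φ (hmem y (List.mem_cons_of_mem _ hy)))
      (fun a g b hab hg => by
        obtain ⟨a', b', hfs, rfl, hb⟩ := List.map_eq_append_iff.mp hab
        obtain ⟨g', b'', rfl, rfl, -⟩ := List.map_eq_cons_iff.mp hb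
        rw [hJ', ← hmax, ← Ideal.map_mul, ← Ideal.map_ofList, ← Ideal.map_sup, ← Ideal.mem_comap,
          Ideal.comap_map_of_surjective' _ Ideal.Quotient.mk_surjective, Ideal.mk_ker] at hg
        refine hind (f :: a') g' b'' (by rw [hfs]; rfl) ?_
        rw [Ideal.ofList_cons]
        revert hg
        rw [sup_comm, sup_assoc]
        exact id)
    obtain ⟨gs, rfl⟩ := List.map_surjective_iff.mpr (Ideal.Quotient.mk_surjective : Function.Surjective φ) gs
    rw [← List.map_append] at hgs hgJ
    refine ⟨gs, isWeaklyRegular_cons ?_ hgs, ?_⟩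
    · exact (isWeaklyRegular_singleton_iff R f).mp ((isWeaklyRegular_append_iff R [f] _).mp h2).1
    · rw [List.cons_append, Ideal.ofList_cons, ← hJ]
      rw [← Ideal.map_ofList, ← Ideal.map_ofList] at hgJ
      have := congrArg (Ideal.comap φ) hgJ
      rwa [Ideal.comap_map_of_surjective' _ Ideal.Quotient.mk_surjective,
        Ideal.comap_map_of_surjective' _ Ideal.Quotient.mk_surjective, Ideal.mk_ker, sup_comm,
        sup_comm (Ideal.ofList (l₁ ++ l₂))] at this

/-- Every ideal of a noetherian local ring has an irredundant generating list. -/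
theorem exists_irredundant [IsNoetherianRing R] (I : Ideal R) :
    ∃ fs : List R, Ideal.ofList fs = I ∧
      ∀ l₁ g l₂, fs = l₁ ++ g :: l₂ → g ∉ Ideal.ofList l₁ ⊔ maximalIdeal R * I := by
  classical
  obtain ⟨s, hs⟩ := IsNoetherian.noetherian I
  have hex : ∃ n, ∃ fs : List R, fs.length = n ∧ Ideal.ofList fs = I :=
    ⟨_, s.toList, rfl, by rw [← hs]; exact congrArg Ideal.span (Set.ext fun _ => Finset.mem_toList)⟩
  obtain ⟨fs, hlen, hfs⟩ := Nat.find_spec hex
  refine ⟨fs, hfs, fun l₁ g l₂ hsp hg => ?_⟩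
  have hle : Ideal.ofList (l₁ ++ l₂) ≤ I := by
    rw [← hfs, hsp, ofList_perm List.perm_middle, Ideal.ofList_cons]
    exact le_sup_right
  have hI : I ≤ Ideal.ofList (l₁ ++ l₂) ⊔ maximalIdeal R * I := by
    conv_lhs => rw [← hfs, hsp, ofList_perm List.perm_middle, Ideal.ofList_cons]
    refine sup_le ((Ideal.span_singleton_le_iff_mem _).mpr ?_) le_sup_left
    refine SetLike.le_def.mp (sup_le_sup_right ?_ _) hg
    rw [Ideal.ofList_append]
    exact le_sup_left
  have heq : I ≤ Ideal.ofList (l₁ ++ l₂) :=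
    Submodule.le_of_le_smul_of_le_jacobson_bot (IsNoetherian.noetherian I)
      (IsLocalRing.maximalIdeal_le_jacobson _) hI
  refine Nat.find_min hex (m := (l₁ ++ l₂).length) ?_ ⟨_, rfl, le_antisymm hle heq⟩
  rw [← hlen, hsp]
  simp only [List.length_append, List.length_cons]
  omega

end GrothLib.RegExch
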